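import Mathlib

/-!
The lattice computation behind S18330 and S18331: the group generated by the maps
`x ↦ b(d, x) + (1 - g) b(x, x)` modulo `δ`.
-/

namespace LatticeFormsLib

open Module

/-- A basis in which `d` is its divisibility times the first basis vector. -/
theorem exists_basis_gcd (s : ℕ) (d : Fin (s + 1) → ℤ) :
    ∃ B : Basis (Fin (s + 1)) ℤ (Fin (s + 1) → ℤ), d = Finset.univ.gcd d • B 0 := by
  classical
  by_cases hd : d = 0
  · refine ⟨Pi.basisFun ℤ _, ?_⟩
    subst hd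
    have : Finset.univ.gcd (0 : Fin (s + 1) → ℤ) = 0 := Finset.gcd_eq_zero_iff.2 fun _ _ => rfl
    rw [this, zero_smul]
  set D := Finset.univ.gcd d with hD
  obtain ⟨i, hi⟩ : ∃ i, d i ≠ 0 := Function.ne_iff.1 hd
  have hD0 : D ≠ 0 := fun h => hi (Finset.gcd_eq_zero_iff.1 (hD ▸ h) i (Finset.mem_univ i))
  obtain ⟨u, hu, hu1⟩ := Finset.extract_gcd d Finset.univ_nonempty
  obtain ⟨c, hc⟩ : ∃ c : Fin (s + 1) → ℤ, ∑ j, c j * u j = 1 := by
    have h := Finset.gcd_eq_sum_mul (s := Finset.univ) u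
    obtain ⟨c, hc⟩ := h
    exact ⟨c, by rw [← hu1, hc]; exact Finset.sum_congr rfl fun j _ => mul_comm _ _⟩
  let f : (Fin (s + 1) → ℤ) →ₗ[ℤ] ℤ := ∑ j, c j • LinearMap.proj j
  have hf : f u = 1 := by simpa [f] using hc
  let K := LinearMap.ker f
  let e : (ℤ × K) ≃ₗ[ℤ] (Fin (s + 1) → ℤ) :=
    { toFun := fun p => p.1 • u + p.2.1
      map_add' := fun p q => by simp [add_smul]; abel
      map_smul' := fun a p => by simp [mul_smul, smul_add]
      invFun := fun x => (f x, ⟨x - f x • u, by simp [K, hf, -zsmul_eq_mul]⟩)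
      left_inv := fun p => by
        have hp : f p.2.1 = 0 := p.2.2
        ext <;> simp [hf, hp, -zsmul_eq_mul]
      right_inv := fun x => by simp }
  have hfr : finrank ℤ K = s := by
    have h := e.finrank_eq
    rw [Module.finrank_prod, Module.finrank_self, Module.finrank_fin_fun] at h
    omega
  let bK : Basis (Fin s) ℤ K := Module.finBasisOfFinrankEq ℤ K hfr
  let B : Basis (Fin (s + 1)) ℤ (Fin (s + 1) → ℤ) :=
    ((((Basis.singleton (Fin 1) ℤ).prod bK).reindex finSumFinEquiv).reindex (finCongr (by omega : 1 + s = s + 1))).map e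
  refine ⟨B, ?_⟩
  have hB0 : B 0 = u := by
    have : finSumFinEquiv.symm ((finCongr (by omega : 1 + s = s + 1)).symm 0) = (Sum.inl (0 : Fin 1) : Fin 1 ⊕ Fin s) := by
      rw [Equiv.symm_apply_eq]
      ext; simp
    simp only [B, Basis.map_apply, Basis.reindex_apply, this]
    simp [e]
  rw [hB0]
  funext j
  simpa [smul_eq_mul] using hu j (Finset.mem_univ j)

variable (δ : ℕ)

/-- The evaluation of homomorphisms on a basis. -/
noncomputable def coords {s : ℕ} (B : Basis (Fin (s + 1)) ℤ (Fin (s + 1) → ℤ)) :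
    ((Fin (s + 1) → ℤ) →+ ZMod δ) ≃+ ZMod δ × (Fin s → ZMod δ) where
  toFun φ := (φ (B 0), fun j => φ (B j.succ))
  invFun p := (B.constr ℤ (Fin.cons p.1 p.2)).toAddMonoidHom
  left_inv φ := by
    have : B.constr ℤ (Fin.cons (φ (B 0)) fun j => φ (B j.succ)) = φ.toIntLinearMap := by
      refine B.ext fun i => ?_
      rw [Basis.constr_basis]
      refine Fin.cases ?_ (fun i => ?_) i <;> simp
    ext x
    simp [this]
  right_inv p := by
    ext <;> simp
  map_add' φ ψ := rfl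

/-- The boundary forms, in coordinates, form a product of cyclic subgroups. -/
theorem mem_boundaryForms_iff {s : ℕ} (g : ℤ) (hδ : (δ : ℤ) ∣ 2 * (g - 1)) (d : Fin (s + 1) → ℤ)
    (B : Basis (Fin (s + 1)) ℤ (Fin (s + 1) → ℤ)) (D : ℤ) (hd : d = D • B 0)
    (φ : (Fin (s + 1) → ℤ) →+ ZMod δ) :
    (∃ b : LinearMap.BilinForm ℤ (Fin (s + 1) → ℤ), b.IsSymm ∧
      ∀ x, φ x = ((b d x + (1 - g) * b x x : ℤ) : ZMod δ)) ↔
    φ (B 0) ∈ AddSubgroup.zmultiples ((D + 1 - g : ℤ) : ZMod δ) ∧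
      ∀ j : Fin s, φ (B j.succ) ∈ AddSubgroup.zmultiples ((Int.gcd D (1 - g) : ℤ) : ZMod δ) := by
  constructor
  · rintro ⟨b, hb, hφ⟩
    refine ⟨AddSubgroup.mem_zmultiples_iff.2 ⟨b (B 0) (B 0), ?_⟩, fun j => ?_⟩
    · rw [hφ, hd, zsmul_eq_mul, ← Int.cast_mul]
      simp only [map_smul, LinearMap.smul_apply, smul_eq_mul]
      congr 1; ring
    · obtain ⟨u, hu⟩ := Int.gcd_dvd_left D (1 - g)
      obtain ⟨v, hv⟩ := Int.gcd_dvd_right D (1 - g)
      refine AddSubgroup.mem_zmultiples_iff.2 ⟨u * b (B 0) (B j.succ) + v * b (B j.succ) (B j.succ), ?_⟩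
      rw [hφ, hd, zsmul_eq_mul, ← Int.cast_mul]
      simp only [map_smul, LinearMap.smul_apply, smul_eq_mul]
      congr 1
      conv_rhs => rw [hv]; arg 1; rw [hu]
      ring
  · rintro ⟨h0, h1⟩
    obtain ⟨k0, hk0⟩ := AddSubgroup.mem_zmultiples_iff.1 h0
    choose k hk using fun j => AddSubgroup.mem_zmultiples_iff.1 (h1 j)
    let p := Int.gcdA D (1 - g)
    let q := Int.gcdB D (1 - g)
    let M : Fin (s + 1) → Fin (s + 1) → ℤ := fun i l =>
      Fin.cases (Fin.cases k0 (fun j => k j * p) l)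
        (fun i => Fin.cases (k i * p) (fun j => if i = j then k i * q else 0) l) i
    have hM : ∀ i l, M i l = M l i := fun i l => by
      refine Fin.cases ?_ (fun i => ?_) i <;> refine Fin.cases ?_ (fun l => ?_) l <;> simp [M]
      by_cases h : i = l
      · subst h; simp
      · simp [h, Ne.symm h]
    let b : LinearMap.BilinForm ℤ (Fin (s + 1) → ℤ) := B.constr ℤ fun i => B.constr ℤ fun l => M i l
    have hbB : ∀ i l, b (B i) (B l) = M i l := fun i l => by simp [b]
    have hflip : b.flip = b := by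
      refine B.ext fun i => B.ext fun l => ?_
      change b (B l) (B i) = b (B i) (B l)
      rw [hbB, hbB, hM]
    have hsymm : ∀ x y, b x y = b y x := fun x y => by
      conv_lhs => rw [← hflip]
      rfl
    refine ⟨b, ⟨hsymm⟩, fun x => ?_⟩
    let ψ : (Fin (s + 1) → ℤ) →+ ZMod δ :=
      AddMonoidHom.mk' (fun x => ((b d x + (1 - g) * b x x : ℤ) : ZMod δ)) fun x y => by
        have h2 : ((2 * (1 - g) : ℤ) : ZMod δ) = 0 := by
          rw [ZMod.intCast_zmod_eq_zero_iff_dvd, show 2 * (1 - g) = -(2 * (g - 1)) by ring]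
          exact hδ.neg_right
        have : b d (x + y) + (1 - g) * b (x + y) (x + y) =
            (b d x + (1 - g) * b x x) + (b d y + (1 - g) * b y y) + 2 * (1 - g) * b x y := by
          simp only [map_add, LinearMap.add_apply, hsymm y x]; ring
        rw [this, Int.cast_add, Int.cast_mul, h2, zero_mul, add_zero, Int.cast_add]
    have : φ = ψ := by
      refine (coords δ B).injective (Prod.ext ?_ (funext fun j => ?_))
      · change φ (B 0) = ((b d (B 0) + (1 - g) * b (B 0) (B 0) : ℤ) : ZMod δ)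
        rw [← hk0, zsmul_eq_mul, ← Int.cast_mul, hd]
        simp only [map_smul, LinearMap.smul_apply, smul_eq_mul, hbB]
        congr 1; simp [M]; ring
      · change φ (B j.succ) = ((b d (B j.succ) + (1 - g) * b (B j.succ) (B j.succ) : ℤ) : ZMod δ)
        rw [← hk j, zsmul_eq_mul, ← Int.cast_mul, hd]
        simp only [map_smul, LinearMap.smul_apply, smul_eq_mul, hbB]
        congr 1; simp [M, Int.gcd_eq_gcd_ab, p, q]; ring
    exact DFunLike.congr_fun this x

/-- The subgroup generated by the boundary forms, in coordinates. -/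
theorem closure_boundaryForms {s : ℕ} (g : ℤ) (hδ : (δ : ℤ) ∣ 2 * (g - 1)) (d : Fin (s + 1) → ℤ)
    (B : Basis (Fin (s + 1)) ℤ (Fin (s + 1) → ℤ)) (D : ℤ) (hd : d = D • B 0) :
    AddSubgroup.closure {φ : (Fin (s + 1) → ℤ) →+ ZMod δ | ∃ b : LinearMap.BilinForm ℤ (Fin (s + 1) → ℤ),
      b.IsSymm ∧ ∀ x, φ x = ((b d x + (1 - g) * b x x : ℤ) : ZMod δ)} =
    ((AddSubgroup.zmultiples ((D + 1 - g : ℤ) : ZMod δ)).prod
      (AddSubgroup.pi Set.univ fun _ : Fin s => AddSubgroup.zmultiples ((Int.gcd D (1 - g) : ℤ) : ZMod δ))).comap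
      (coords δ B).toAddMonoidHom := by
  rw [show {φ : (Fin (s + 1) → ℤ) →+ ZMod δ | ∃ b : LinearMap.BilinForm ℤ (Fin (s + 1) → ℤ),
      b.IsSymm ∧ ∀ x, φ x = ((b d x + (1 - g) * b x x : ℤ) : ZMod δ)} =
    ((((AddSubgroup.zmultiples ((D + 1 - g : ℤ) : ZMod δ)).prod
      (AddSubgroup.pi Set.univ fun _ : Fin s => AddSubgroup.zmultiples ((Int.gcd D (1 - g) : ℤ) : ZMod δ))).comap
      (coords δ B).toAddMonoidHom : AddSubgroup _) : Set _) from ?_, AddSubgroup.closure_eq]
  ext φ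
  rw [Set.mem_ofPred_eq, mem_boundaryForms_iff δ g hδ d B D hd φ]
  simp [AddSubgroup.mem_prod, AddSubgroup.mem_pi, coords]

/-- The quotient of `ZMod δ` by the multiples of an integer. -/
theorem quotient_zmultiples_equiv (a : ℤ) :
    ∃ π : ZMod δ →+ ZMod (Int.gcd δ a), Function.Surjective π ∧
      π.ker = AddSubgroup.zmultiples ((a : ℤ) : ZMod δ) := by
  have hn : Int.gcd δ a ∣ δ := by exact_mod_cast Int.gcd_dvd_left (δ : ℤ) a
  refine ⟨(ZMod.castHom hn _).toAddMonoidHom, ZMod.castHom_surjective hn, ?_⟩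
  ext x
  obtain ⟨y, rfl⟩ := ZMod.intCast_surjective x
  simp only [AddMonoidHom.mem_ker, RingHom.toAddMonoidHom_eq_coe, AddMonoidHom.coe_coe, map_intCast,
    AddSubgroup.mem_zmultiples_iff, zsmul_eq_mul, Int.cast_id, ← Int.cast_mul,
    ZMod.intCast_zmod_eq_zero_iff_dvd, ZMod.intCast_eq_intCast_iff_dvd_sub]
  constructor
  · rintro ⟨t, ht⟩
    refine ⟨t * Int.gcdB δ a, t * Int.gcdA δ a, ?_⟩
    have := Int.gcd_eq_gcd_ab (δ : ℤ) a
    rw [ht, this]; ring
  · rintro ⟨n, t, ht⟩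
    rw [show y = n * a + δ * t by linarith]
    exact dvd_add ((Int.gcd_dvd_right _ _).mul_left _) ((Int.gcd_dvd_left _ _).mul_right _)

/-- The multiples of an integer in `ZMod δ`. -/
theorem zmultiples_equiv (hδ : 0 < δ) (a : ℤ) :
    Nonempty (AddSubgroup.zmultiples ((a : ℤ) : ZMod δ) ≃+ ZMod (δ / Int.gcd δ a)) := by
  have : NeZero δ := ⟨hδ.ne'⟩
  have hcard : Nat.card (AddSubgroup.zmultiples ((a : ℤ) : ZMod δ)) = δ / Int.gcd δ a := by
    rw [Nat.card_zmultiples]
    have h : addOrderOf ((a : ℤ) : ZMod δ) = addOrderOf ((a.natAbs : ℕ) : ZMod δ) := by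
      obtain ⟨n, rfl | rfl⟩ := Int.eq_nat_or_neg a <;> simp [addOrderOf_neg]
    rw [h, ZMod.addOrderOf_coe _ hδ.ne']
    rfl
  exact ⟨(zmodAddCyclicAddEquiv inferInstance).symm.trans (hcard ▸ AddEquiv.refl _)⟩

end LatticeFormsLib
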